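import Cfsg.Agent.Lib.FGStruct.QuatFortyEight.Split
import Cfsg.Agent.Lib.Small.SL23

/-!
`GL(2, 3)` has the quaternion subgroup, involution and element of order `3` of the recognition.
-/

set_option autoImplicit false
set_option linter.style.haveILetI false
set_option maxRecDepth 100000

namespace Cfsg.Agent.FGStruct.QuatFortyEight

open Matrix

theorem cent_check : ∀ a b c d : ZMod 3, a * d - b * c ≠ 0 →
    !![a, b; c, d] * !![0, 2; 1, 0] = !![(0 : ZMod 3), 2; 1, 0] * !![a, b; c, d] →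
    !![a, b; c, d] * !![1, 1; 1, 2] = !![(1 : ZMod 3), 1; 1, 2] * !![a, b; c, d] →
    !![a, b; c, d] = 1 ∨ !![a, b; c, d] = !![2, 0; 0, (2 : ZMod 3)] := by decide +kernel

/-- `GL(2, 3)`. -/
abbrev G48 := GL (Fin 2) (ZMod 3)

/-- The quaternion group inside `GL(2, 3)`. -/
noncomputable def quatHom : Q8 →* G48 :=
  Matrix.SpecialLinearGroup.toGL.comp (MonoidHom.mk' SL23.quat SL23.quat_mul)

theorem quatHom_apply (q : Q8) :
    ((quatHom q : G48) : Matrix (Fin 2) (Fin 2) (ZMod 3)) = (SL23.quat q).1 := rfl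

theorem quatHom_injective : Function.Injective quatHom := fun a b h =>
  SL23.quat_injective (Subtype.ext (congrArg (fun x : G48 => (x : Matrix (Fin 2) (Fin 2) (ZMod 3))) h :))

theorem mem_range {x : G48} (hdet : (x : Matrix (Fin 2) (Fin 2) (ZMod 3)).det = 1) (h4 : x ^ 4 = 1) :
    x ∈ quatHom.range := by
  obtain ⟨p, hp⟩ := SL23.quat_surjective (⟨(x : Matrix (Fin 2) (Fin 2) (ZMod 3)), hdet⟩ : SL23.S)
    (Subtype.ext ((Matrix.SpecialLinearGroup.coe_pow _ 4).trans
      ((Units.val_pow_eq_pow_val x 4).symm.trans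
        (congrArg (fun y : G48 => (y : Matrix (Fin 2) (Fin 2) (ZMod 3))) h4))))
  exact ⟨p, Units.ext (by rw [quatHom_apply, hp])⟩

theorem range_facts {x : G48} (hx : x ∈ quatHom.range) :
    (x : Matrix (Fin 2) (Fin 2) (ZMod 3)).det = 1 ∧ x ^ 4 = 1 := by
  obtain ⟨p, rfl⟩ := hx
  refine ⟨(SL23.quat p).2, ?_⟩
  have h : p ^ 4 = 1 := by revert p; decide +kernel
  rw [← map_pow, h, map_one]

/-- The data for `GL(2, 3)`. -/
noncomputable def model : Split G48 where
  N := quatHom.range
  normal := ⟨fun x hx g => by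
    obtain ⟨h1, h2⟩ := range_facts hx
    refine mem_range ?_ ?_
    · simp only [Units.val_mul, Matrix.det_mul, h1, mul_one]
      rw [← Matrix.det_mul, ← Units.val_mul, mul_inv_cancel, Units.val_one, Matrix.det_one]
    · rw [conj_pow, h2, mul_one, mul_inv_cancel]⟩
  e := MonoidHom.ofInjective quatHom_injective
  cent := by
    intro x hx
    set M := (x : Matrix (Fin 2) (Fin 2) (ZMod 3)) with hM
    have hcomm : ∀ p : Q8, M * (SL23.quat p).1 = (SL23.quat p).1 * M := fun p =>
      (congrArg (fun y : G48 => (y : Matrix (Fin 2) (Fin 2) (ZMod 3)))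
        (Subgroup.mem_centralizer_iff.1 hx (quatHom p) ⟨p, rfl⟩)).symm
    have hA : (SL23.quat (QuaternionGroup.a 1)).1 = !![(0 : ZMod 3), 2; 1, 0] := by decide +kernel
    have hX : (SL23.quat (QuaternionGroup.xa 0)).1 = !![(1 : ZMod 3), 1; 1, 2] := by decide +kernel
    have h1 := hcomm (QuaternionGroup.a 1)
    have h2 := hcomm (QuaternionGroup.xa 0)
    rw [hA] at h1
    rw [hX] at h2
    have hdet : M.det ≠ 0 := fun h => by
      have h' := congrArg Matrix.det (Units.mul_inv x)
      rw [Matrix.det_mul, ← hM, h, zero_mul, Matrix.det_one] at h'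
      exact zero_ne_one h'
    rw [Matrix.eta_fin_two M] at h1 h2
    rcases cent_check _ _ _ _ (Matrix.det_fin_two M ▸ hdet) h1 h2 with h | h
    · rw [← Matrix.eta_fin_two M] at h
      rw [show x = 1 from Units.ext h]
      exact one_mem _
    · rw [← Matrix.eta_fin_two M] at h
      refine mem_range ?_ (Units.ext ?_)
      · rw [← hM, h]; decide +kernel
      · rw [Units.val_pow_eq_pow_val, ← hM, h]; decide +kernel
  card := by
    rw [Matrix.card_GL_field, ZMod.card]
    simp [Fin.prod_univ_two]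
  s := Matrix.GeneralLinearGroup.mkOfDetNeZero !![(2 : ZMod 3), 0; 0, 1] (by decide +kernel)
  t := Matrix.GeneralLinearGroup.mkOfDetNeZero !![(1 : ZMod 3), 1; 0, 1] (by decide +kernel)
  hs := fun h => by
    have h1 := (range_facts h).1
    revert h1
    show Matrix.det !![(2 : ZMod 3), 0; 0, 1] = 1 → False
    decide +kernel
  hs2 := Units.ext (by
    show !![(2 : ZMod 3), 0; 0, 1] * !![(2 : ZMod 3), 0; 0, 1] = 1
    decide +kernel)
  ht := by
    refine @orderOf_eq_prime _ _ _ _ ⟨Nat.prime_three⟩ (Units.ext ?_) fun h => ?_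
    · show !![(1 : ZMod 3), 1; 0, 1] ^ 3 = 1
      decide +kernel
    · have h1 : !![(1 : ZMod 3), 1; 0, 1] = 1 :=
        congrArg (fun y : G48 => (y : Matrix (Fin 2) (Fin 2) (ZMod 3))) h
      revert h1
      decide +kernel
  hst := by
    rw [inv_eq_of_mul_eq_one_left (a := Matrix.GeneralLinearGroup.mkOfDetNeZero !![(2 : ZMod 3), 0; 0, 1]
      (by decide +kernel)) (b := Matrix.GeneralLinearGroup.mkOfDetNeZero !![(2 : ZMod 3), 0; 0, 1]
      (by decide +kernel))]
    · refine eq_inv_of_mul_eq_one_left (Units.ext ?_)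
      show !![(2 : ZMod 3), 0; 0, 1] * !![(1 : ZMod 3), 1; 0, 1] * !![(2 : ZMod 3), 0; 0, 1] *
        !![(1 : ZMod 3), 1; 0, 1] = 1
      decide +kernel
    · refine Units.ext ?_
      show !![(2 : ZMod 3), 0; 0, 1] * !![(2 : ZMod 3), 0; 0, 1] = 1
      decide +kernel

end Cfsg.Agent.FGStruct.QuatFortyEight
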