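import Cfsg.Agent.Lib.FGStruct.QuatFortyEight.Split
import Cfsg.Agent.Lib.FGStruct.QuatFortyEight.Model
import Cfsg.Agent.Lib.Solvable.FixedPointFree
import Cfsg.Agent.Lib.Solvable.Fitting
import Cfsg.Agent.Lib.TwoGroups.WreathedOdd
import Cfsg.Agent.Lib.Fusion.CharPLemmas
import Cfsg.Agent.Lib.Classical.FourGroup
import Cfsg.Prelude.Def_CaseTheorems

/-!
Solvable groups in which distinct Sylow 2-subgroups meet in 2-rank at most one: modulo the odd core
they are 2-closed or one of the two representation groups of `S₄`.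
-/

set_option autoImplicit false
set_option linter.style.haveILetI false

namespace Cfsg.Agent.FGStruct.QuatFortyEight

/-- All abelian subgroups of a 2-group of 2-rank at most one are cyclic. -/
theorem abCyclic_of_rank {P : Type*} [Group P] [Finite P] (hP : IsPGroup 2 P)
    (h : Cfsg.PRankLE 2 1 P) : AbCyc.AbCyclic P := by
  intro A hA
  by_contra hnc
  obtain ⟨q, E, hq, hE, hEe⟩ := CoprimeAct.exists_elementary_of_not_isCyclic (H := A) hnc
  have hq2 : q = 2 := by
    haveI : Fact (Nat.Prime 2) := ⟨Nat.prime_two⟩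
    obtain ⟨k, hk⟩ := IsPGroup.iff_card.1 (hP.to_subgroup A)
    have h1 : q ∣ 2 ^ k := hk ▸ (dvd_pow_self q two_ne_zero).trans (hE ▸ Subgroup.card_subgroup_dvd_card E)
    exact (Nat.prime_dvd_prime_iff_eq hq Nat.prime_two).1 (hq.dvd_of_dvd_pow h1)
  subst hq2
  haveI := hA
  have h2 := h (E.map A.subtype) (.of_setLike_mul_comm (by
      rintro _ ⟨a, ha, rfl⟩ _ ⟨b, hb, rfl⟩
      rw [← map_mul, ← map_mul, mul_comm' a b]))
    (by rintro _ ⟨a, ha, rfl⟩; rw [← map_pow]; exact (congrArg (fun w : E => A.subtype (w : A)) (hEe ⟨a, ha⟩)).trans (map_one _))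
  rw [Subgroup.card_map_of_injective A.subtype_injective, hE] at h2
  norm_num at h2

open QuaternionGroup in
/-- An automorphism of odd order of a quaternion group other than `Q8` is trivial. -/
theorem quaternion_aut {n : ℕ} (hn : n ≠ 1) (φ : MulAut (QuaternionGroup (2 ^ n))) (ho : Odd (orderOf φ)) :
    φ = 1 := by
  haveI : NeZero (2 ^ n) := ⟨pow_ne_zero _ two_ne_zero⟩
  have hX : IsPGroup 2 (QuaternionGroup (2 ^ n)) := IsPGroup.of_card (n := n + 2) (by
    rw [Nat.card_eq_fintype_card, QuaternionGroup.card]; ring)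
  have hzp : ∀ i : ZMod (2 * 2 ^ n), (a i : QuaternionGroup (2 ^ n)) ∈ Subgroup.zpowers (a 1) := fun i =>
    ⟨(i.val : ℤ), show (a 1 : QuaternionGroup (2 ^ n)) ^ (i.val : ℤ) = a i by
      rw [zpow_natCast, QuaternionGroup.a_one_pow, ZMod.natCast_zmod_val]⟩
  rcases Nat.eq_zero_or_pos n with rfl | hn0
  · ext x
    have hgen : ∀ y : QuaternionGroup (2 ^ 0), y ∈ Subgroup.zpowers (xa 0 : QuaternionGroup (2 ^ 0)) := by
      have h4 : Subgroup.zpowers (xa 0 : QuaternionGroup (2 ^ 0)) = ⊤ := by
        refine Subgroup.eq_top_of_card_eq _ ?_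
        rw [Nat.card_zpowers, QuaternionGroup.orderOf_xa, Nat.card_eq_fintype_card, QuaternionGroup.card]
        rfl
      exact fun y => h4 ▸ Subgroup.mem_top y
    exact Wreath.fixed_of_mem_cyclic hX φ ho (hgen x) (hgen (φ x))
  have hn2 : 2 ≤ n := by omega
  have hA : φ (a 1) = a 1 := by
    refine Wreath.fixed_of_mem_cyclic hX φ ho (Subgroup.mem_zpowers _) ?_
    cases hφ : φ (a 1) with
    | a i => exact hzp i
    | xa i =>
      exfalso
      have h1 := φ.orderOf_eq (a 1)
      rw [hφ, QuaternionGroup.orderOf_xa, QuaternionGroup.orderOf_a_one] at h1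
      have : 2 ^ 2 ≤ 2 ^ n := Nat.pow_le_pow_right two_pos hn2
      omega
  have hfix : ∀ d ∈ Subgroup.zpowers (a 1 : QuaternionGroup (2 ^ n)), φ d = d := by
    rintro _ ⟨i, rfl⟩
    show φ ((a 1) ^ i) = (a 1) ^ i
    rw [map_zpow, hA]
  ext x
  cases x with
  | a i => exact hfix _ (hzp i)
  | xa i =>
    cases hφ : φ (xa i) with
    | a j =>
      exfalso
      have h1 : φ (a j) = φ (xa i) := (hfix _ (hzp j)).trans hφ.symm
      exact absurd (φ.injective h1) (by simp)
    | xa j =>
      have h2 : φ (xa i) = xa i * a (j - i) := by rw [hφ, QuaternionGroup.xa_mul_a, add_sub_cancel]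
      exact hφ ▸ Wreath.fixed_of_translate hX φ ho h2 (hfix _ (hzp (j - i)))

variable {H : Type*} [Group H] [Finite H]

/-- The quotient by the odd core inherits the hypothesis. -/
theorem rank_quotient (O : Subgroup H) [O.Normal] (hO : (Nat.card O).Coprime 2)
    (hI : ∀ S T : Sylow 2 H, S ≠ T → Cfsg.PRankLE 2 1 ↥((S : Subgroup H) ⊓ (T : Subgroup H)))
    (S T : Sylow 2 (H ⧸ O)) (hST : S ≠ T) :
    Cfsg.PRankLE 2 1 ↥((S : Subgroup (H ⧸ O)) ⊓ (T : Subgroup (H ⧸ O))) := by
  haveI : Fact (Nat.Prime 2) := ⟨Nat.prime_two⟩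
  intro A hA hA2
  by_contra hlt
  rw [not_le] at hlt
  set π := QuotientGroup.mk' O with hπ
  have hsurj := QuotientGroup.mk'_surjective O
  set B := A.map ((S : Subgroup (H ⧸ O)) ⊓ (T : Subgroup (H ⧸ O))).subtype with hB
  have hBcard : Nat.card B = Nat.card A := Subgroup.card_map_of_injective (Subgroup.subtype_injective _)
  have hBS : B ≤ (S : Subgroup (H ⧸ O)) := (Subgroup.map_subtype_le _).trans inf_le_left
  have hBT : B ≤ (T : Subgroup (H ⧸ O)) := (Subgroup.map_subtype_le _).trans inf_le_right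
  -- lift the Sylow subgroups
  have lift : ∀ U : Sylow 2 (H ⧸ O), ∃ U₀ : Sylow 2 H,
      (U₀ : Subgroup H).map π = (U : Subgroup (H ⧸ O)) := by
    intro U
    obtain ⟨U₁⟩ : Nonempty (Sylow 2 H) := inferInstance
    obtain ⟨q, hq⟩ := MulAction.exists_smul_eq (H ⧸ O) (U₁.mapSurjective hsurj) U
    obtain ⟨g, rfl⟩ := hsurj q
    refine ⟨g • U₁, ?_⟩
    rw [← hq]
    ext x
    constructor
    · rintro ⟨_, ⟨u, hu, rfl⟩, rfl⟩
      exact ⟨π u, ⟨u, hu, rfl⟩, by
        show π g * π u * (π g)⁻¹ = π (g * u * g⁻¹)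
        rw [map_mul, map_mul, map_inv]⟩
    · rintro ⟨_, ⟨u, hu, rfl⟩, rfl⟩
      exact ⟨g * u * g⁻¹, ⟨u, hu, rfl⟩, by
        show π (g * u * g⁻¹) = π g * π u * (π g)⁻¹
        rw [map_mul, map_mul, map_inv]⟩
  obtain ⟨S₀, hS₀⟩ := lift S
  obtain ⟨T₀, hT₀⟩ := lift T
  set V := (S₀ : Subgroup H) ⊓ B.comap π with hV
  have hVB : V.map π = B := by
    refine le_antisymm (Subgroup.map_le_iff_le_comap.2 inf_le_right) fun b hb => ?_
    obtain ⟨s, hs, rfl⟩ := hS₀.ge (hBS hb)
    exact ⟨s, ⟨hs, hb⟩, rfl⟩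
  have hVinj : ∀ v ∈ V, π v = 1 → v = 1 := by
    intro v hv h1
    have h2 : orderOf v ∣ Nat.card O := by
      rw [← Subgroup.orderOf_mk v ((QuotientGroup.eq_one_iff v).1 h1)]; exact orderOf_dvd_natCard _
    obtain ⟨k, hk⟩ := IsPGroup.iff_orderOf.1 S₀.isPGroup' ⟨v, hv.1⟩
    rw [Subgroup.orderOf_mk] at hk
    rcases Nat.eq_zero_or_pos k with rfl | hk0
    · exact orderOf_eq_one_iff.1 (by simpa using hk)
    · exact absurd (Nat.eq_one_of_dvd_coprimes hO ((hk ▸ dvd_pow_self 2 hk0.ne' : 2 ∣ orderOf v).trans h2)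
        dvd_rfl) (by norm_num)
  -- conjugate `V` into `T₀`
  set L := (T : Subgroup (H ⧸ O)).comap π with hL
  have hVL : V ≤ L := fun v hv => hBT (hVB ▸ Subgroup.mem_map_of_mem π hv : π v ∈ B)
  have hT₀L : (T₀ : Subgroup H) ≤ L := fun t ht => hT₀.le (Subgroup.mem_map_of_mem π ht)
  obtain ⟨W, hW⟩ := ((S₀.isPGroup'.to_le (inf_le_left : V ≤ _)).comap_subtype (K := L)).exists_le_sylow
  obtain ⟨l, hl⟩ := MulAction.exists_smul_eq L (T₀.subtype hT₀L) W
  set T' := (l : H) • T₀ with hT'
  have hVT' : V ≤ (T' : Subgroup H) := by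
    intro v hv
    have h1 : (⟨v, hVL hv⟩ : L) ∈ (W : Subgroup L) := hW hv
    rw [← hl] at h1
    obtain ⟨u, hu, hue⟩ := h1
    exact ⟨(u : H), hu, congrArg Subtype.val hue⟩
  have hne : S₀ ≠ T' := by
    intro h
    apply hST
    apply Sylow.ext
    refine Subgroup.eq_of_le_of_card_ge ?_ ?_
    · intro x hx
      obtain ⟨s, hs, rfl⟩ := hS₀.ge hx
      rw [h] at hs
      obtain ⟨u, hu, rfl⟩ := hs
      have h1 : π ((l : H) * u * (l : H)⁻¹) ∈ (T : Subgroup (H ⧸ O)) :=
        Subgroup.mem_comap.1 (mul_mem (mul_mem l.2 (hT₀L hu)) (inv_mem l.2))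
      exact h1
    · rw [Sylow.card_eq_multiplicity, Sylow.card_eq_multiplicity]
  -- the contradiction
  have hVX : V ≤ (S₀ : Subgroup H) ⊓ (T' : Subgroup H) := le_inf inf_le_left hVT'
  haveI := hA
  have hBe : ∀ x ∈ B, x ^ 2 = 1 := by
    rintro _ ⟨x, hx, rfl⟩
    rw [← map_pow, hA2 x hx, map_one]
  have hBc : ∀ x ∈ B, ∀ y ∈ B, x * y = y * x := by
    rintro _ ⟨x, hx, rfl⟩ _ ⟨y, hy, rfl⟩
    rw [← map_mul, ← map_mul]
    exact congrArg _ (congrArg Subtype.val (mul_comm' (⟨x, hx⟩ : A) ⟨y, hy⟩))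
  have hVe : ∀ x ∈ V, x ^ 2 = 1 := fun x hx =>
    hVinj _ (pow_mem hx 2) (by rw [map_pow]; exact hBe _ (hVB ▸ Subgroup.mem_map_of_mem π hx))
  have hVc : ∀ x ∈ V, ∀ y ∈ V, x * y = y * x := by
    intro x hx y hy
    have hxy : π (x * y) = π (y * x) := by
      rw [map_mul, map_mul]
      exact hBc _ (hVB.le (Subgroup.mem_map_of_mem π hx)) _ (hVB.le (Subgroup.mem_map_of_mem π hy))
    have h1 := hVinj (x * y * (y * x)⁻¹) (mul_mem (mul_mem hx hy) (inv_mem (mul_mem hy hx))) (by
      rw [map_mul π (x * y), map_inv, hxy, mul_inv_cancel])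
    exact mul_inv_eq_one.1 h1
  have h5 := hI S₀ T' hne (V.subgroupOf _)
    (.of_setLike_mul_comm fun x hx y hy => Subtype.ext (hVc x hx y hy))
    (fun x hx => Subtype.ext (hVe x hx))
  rw [Nat.card_congr (Subgroup.subgroupOfEquivOfLe hVX).toEquiv] at h5
  have h6 : Nat.card B ≤ Nat.card V := by
    rw [← hVB]
    exact Nat.card_le_card_of_surjective (fun v : V => (⟨π v, v, v.2, rfl⟩ : V.map π)) (by
      rintro ⟨_, v, hv, rfl⟩; exact ⟨⟨v, hv⟩, rfl⟩)
  omega

/-- The structure of a core-free group with this property. -/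
theorem structure_core_free [Group.IsSolvable H] (hO : Cfsg.oddCore H = ⊥)
    (hI : ∀ S T : Sylow 2 H, S ≠ T → Cfsg.PRankLE 2 1 ↥((S : Subgroup H) ⊓ (T : Subgroup H)))
    (hnc : ¬ ∃ P : Sylow 2 H, (P : Subgroup H).Normal) :
    Nonempty (H ≃* GL (Fin 2) (ZMod 3)) ∨
      (Nat.card H = 48 ∧ Nat.card (Subgroup.center H) = 2 ∧
        Nonempty (H ⧸ Subgroup.center H ≃* Equiv.Perm (Fin 4)) ∧
        ∀ P : Sylow 2 H, Nonempty (↥(P : Subgroup H) ≃* QuaternionGroup 4)) := by
  haveI : Fact (Nat.Prime 2) := ⟨Nat.prime_two⟩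
  haveI : Fact (Nat.Prime 3) := ⟨Nat.prime_three⟩
  haveI := finite_aut
  have hC := FittingCores.centralizer_pCore_le Nat.prime_two hO
  haveI := FittingCores.pCore_normal (G := H) 2
  set N := Cfsg.pCore 2 H with hN
  have hN2 : IsPGroup 2 N := FittingCores.pCore_isPGroup 2
  have hnotp : ¬ IsPGroup 2 H := by
    intro h
    obtain ⟨P⟩ : Nonempty (Sylow 2 H) := inferInstance
    refine hnc ⟨P, ?_⟩
    rw [← P.is_maximal' (h.to_subgroup ⊤) le_top]
    infer_instance
  have hNrank : Cfsg.PRankLE 2 1 N := by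
    obtain ⟨S₁⟩ : Nonempty (Sylow 2 H) := inferInstance
    obtain ⟨g, hg⟩ : ∃ g : H, g • S₁ ≠ S₁ := by
      by_contra h
      push Not at h
      exact hnc ⟨S₁, Subgroup.normalizer_eq_top_iff.1 (top_le_iff.1 fun g _ =>
        Sylow.smul_eq_iff_mem_normalizer.1 (h g))⟩
    have hle : ∀ U : Sylow 2 H, N ≤ (U : Subgroup H) := fun U => by
      obtain ⟨W, hW⟩ := hN2.exists_le_sylow
      obtain ⟨c, hc⟩ := MulAction.exists_smul_eq H W U
      intro x hx
      rw [← hc]
      exact ⟨c⁻¹ * x * c, hW (by simpa using ‹N.Normal›.conj_mem x hx c⁻¹), by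
        show c * (c⁻¹ * x * c) * c⁻¹ = x
        group⟩
    intro A hA hA2
    have hle' : N ≤ ((g • S₁ : Sylow 2 H) : Subgroup H) ⊓ (S₁ : Subgroup H) := le_inf (hle _) (hle _)
    have h1 := hI (g • S₁) S₁ hg (A.map (Subgroup.inclusion hle')) ?_ ?_
    · rwa [Subgroup.card_map_of_injective (Subgroup.inclusion_injective _)] at h1
    · haveI := hA
      refine .of_setLike_mul_comm ?_
      rintro _ ⟨a, ha, rfl⟩ _ ⟨b, hb, rfl⟩
      rw [← map_mul, ← map_mul]
      exact congrArg _ (congrArg Subtype.val (mul_comm' (⟨a, ha⟩ : A) ⟨b, hb⟩))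
    · rintro _ ⟨a, ha, rfl⟩
      rw [← map_pow, hA2 a ha, map_one]
  have hab := abCyclic_of_rank hN2 hNrank
  -- elements of odd order outside `N`
  have hodd_one : ∀ c : H, Odd (orderOf c) → c ∈ Subgroup.centralizer (N : Set H) → c = 1 := by
    intro c hc hcent
    obtain ⟨k, hk⟩ := IsPGroup.iff_orderOf.1 hN2 ⟨c, hC hcent⟩
    rw [Subgroup.orderOf_mk] at hk
    rcases Nat.eq_zero_or_pos k with rfl | hk0
    · exact orderOf_eq_one_iff.1 (by simpa using hk)
    · exact absurd (hk ▸ (dvd_pow_self 2 hk0.ne') : 2 ∣ orderOf c) hc.not_two_dvd_nat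
  obtain ⟨p, hp, hp2, hpd⟩ : ∃ p : ℕ, p.Prime ∧ p ≠ 2 ∧ p ∣ Nat.card H := by
    by_contra h
    push Not at h
    exact hnotp (IsPGroup.of_card (Nat.eq_prime_pow_of_unique_prime_dvd Nat.card_pos.ne'
      fun {d} hd hdd => by_contra fun h2 => h d hd h2 hdd))
  haveI := Fact.mk hp
  obtain ⟨c, hc⟩ := exists_prime_orderOf_dvd_card' p hpd
  have hc1 : c ≠ 1 := fun h => hp.ne_one (by rw [← hc, h, orderOf_one])
  have hcodd : Odd (orderOf c) := hc ▸ hp.odd_of_ne_two hp2
  -- `N` is quaternion of order eight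
  obtain ⟨e⟩ : Nonempty (Q8 ≃* N) := by
    set φ : MulAut N := MulAut.conjNormal c with hφ
    have hφo : Odd (orderOf φ) := hcodd.of_dvd_nat (orderOf_map_dvd _ c)
    have hφ1 : φ ≠ 1 := fun h => hc1 (hodd_one c hcodd (Subgroup.mem_centralizer_iff.2 fun x hx => by
      have h1 : c * x * c⁻¹ = x := congrArg (fun f : MulAut N => ((f ⟨x, hx⟩ : N) : H)) h
      exact (mul_inv_eq_iff_eq_mul.1 h1).symm))
    rcases FpfStruct.cyclic_or_quaternion hN2 hab with hcyc | ⟨-, n, ⟨f⟩⟩
    · exfalso
      obtain ⟨w, hw⟩ := hcyc.exists_generator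
      exact hφ1 (MulEquiv.ext fun x => Wreath.fixed_of_mem_cyclic hN2 φ hφo (hw x) (hw (φ x)))
    · rcases eq_or_ne n 1 with rfl | hn
      · exact ⟨f.symm⟩
      · exfalso
        refine hφ1 ((MulAut.congr f).injective ?_)
        rw [map_one]
        exact quaternion_aut hn _ (hφo.of_dvd_nat (orderOf_map_dvd (MulAut.congr f).toMonoidHom φ))
  -- the order
  let ψ : H →* MulAut Q8 := (MulAut.congr e.symm).toMonoidHom.comp MulAut.conjNormal
  have hψker : ψ.ker = Subgroup.centralizer (N : Set H) := by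
    ext h
    rw [MonoidHom.mem_ker, Subgroup.mem_centralizer_iff]
    constructor
    · intro hh x hx
      have h1 : (MulAut.conjNormal h : MulAut N) = 1 :=
        (MulAut.congr e.symm).injective (hh.trans (map_one _).symm)
      have h3 : h * x * h⁻¹ = x := congrArg (fun g : MulAut N => ((g ⟨x, hx⟩ : N) : H)) h1
      exact (mul_inv_eq_iff_eq_mul.1 h3).symm
    · intro hh
      show (MulAut.congr e.symm) (MulAut.conjNormal h) = 1
      rw [show (MulAut.conjNormal h : MulAut N) = 1 from MulEquiv.ext fun x => Subtype.ext (by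
        show h * x * h⁻¹ = x
        rw [← hh x x.2, mul_inv_cancel_right]), map_one]
  set z : H := (e (QuaternionGroup.a 2) : H) with hz
  have hzN : z ∈ N := (e _).2
  have hz1 : z ≠ 1 := fun h => q8_z_ne (e.injective ((Subtype.ext h : e (QuaternionGroup.a 2) = 1).trans
    (map_one e).symm))
  have hzz : z * z = 1 := by
    rw [hz, ← Subgroup.coe_mul, ← map_mul, q8_z_sq, map_one]; rfl
  have hinv : ∀ v : H, v ∈ N → v * v = 1 → v = 1 ∨ v = z := by
    intro v hv hvv
    rcases q8_invol (e.symm ⟨v, hv⟩) (by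
      rw [← map_mul, show (⟨v, hv⟩ : N) * ⟨v, hv⟩ = 1 from Subtype.ext hvv, map_one]) with h | h
    · exact Or.inl (congrArg Subtype.val (e.symm.injective (h.trans (map_one _).symm)))
    · exact Or.inr (by rw [hz, ← h, MulEquiv.apply_symm_apply])
  have hzc : ∀ y : H, y * z = z * y := by
    intro y
    rcases hinv (y * z * y⁻¹) (‹N.Normal›.conj_mem z hzN y)
      (by rw [show y * z * y⁻¹ * (y * z * y⁻¹) = y * (z * z) * y⁻¹ by group, hzz, mul_one,
        mul_inv_cancel]) with h | h
    · exact absurd (conj_eq_one_iff.1 h) hz1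
    · exact mul_inv_eq_iff_eq_mul.1 h
  have hNcard : Nat.card N = 8 := by rw [← Nat.card_congr e.toEquiv, q8_card]
  have hCz : ∀ x ∈ Subgroup.centralizer (N : Set H), x = 1 ∨ x = z := by
    intro x hx
    refine hinv x (hC hx) ?_
    rcases (q8_central_cases (e.symm ⟨x, hC hx⟩)).1 (fun y => by
      apply e.injective
      rw [map_mul, map_mul, MulEquiv.apply_symm_apply]
      exact Subtype.ext (Subgroup.mem_centralizer_iff.1 hx _ (e y).2).symm) with h | h
    · rw [show x = 1 from congrArg Subtype.val (e.symm.injective (h.trans (map_one _).symm)), one_mul]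
    · rw [show x = z by rw [hz, ← h, MulEquiv.apply_symm_apply], hzz]
  have hcentral : Subgroup.centralizer (N : Set H) ≤ Subgroup.center H := fun x hx => by
    rcases hCz x hx with rfl | rfl
    · exact one_mem _
    · exact Subgroup.mem_center_iff.2 hzc
  have hCcard : Nat.card (Subgroup.centralizer (N : Set H)) = 2 := by
    rw [Nat.card_eq_two_iff]
    refine ⟨⟨1, one_mem _⟩, ⟨z, Subgroup.mem_centralizer_iff.2 fun y _ => hzc y⟩,
      fun h => hz1 (congrArg Subtype.val h).symm, ?_⟩
    rw [Set.eq_univ_iff_forall]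
    rintro ⟨x, hx⟩
    rcases hCz x hx with rfl | rfl <;> simp
  have hk := ψ.ker.index_mul_card
  rw [Subgroup.index_ker, hψker, hCcard] at hk
  have hr24 : Nat.card ψ.range ∣ 24 := by
    have h := Subgroup.card_subgroup_dvd_card ψ.range
    rwa [NearField.card_mulAut_q8] at h
  have hr48 : Nat.card H ∣ 48 := hk ▸ Nat.mul_dvd_mul_right hr24 2
  have h8H : 8 ∣ Nat.card H := hNcard ▸ Subgroup.card_subgroup_dvd_card N
  have hH : Nat.card H = 48 := by
    have hle : Nat.card H ≤ 48 := Nat.le_of_dvd (by norm_num) hr48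
    rcases h8H with ⟨m, hm⟩
    have hm6 : m ∣ 6 := by
      rw [hm] at hr48
      exact (Nat.mul_dvd_mul_iff_left (by norm_num : 0 < 8)).1 hr48
    have hpm : p ∣ m := by
      rcases (Nat.Prime.dvd_mul hp).1 (hm ▸ hpd) with h | h
      · exact absurd ((Nat.prime_dvd_prime_iff_eq hp Nat.prime_two).1
          (hp.dvd_of_dvd_pow (show p ∣ 2 ^ 3 from h))) hp2
      · exact h
    have h3 : p = 3 := by
      rcases (Nat.Prime.dvd_mul hp).1 ((hpm.trans hm6) : p ∣ 2 * 3) with h | h
      · exact absurd ((Nat.prime_dvd_prime_iff_eq hp Nat.prime_two).1 h) hp2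
      · exact (Nat.prime_dvd_prime_iff_eq hp Nat.prime_three).1 h
    subst h3
    obtain ⟨j, rfl⟩ := hpm
    have hj : j ∣ 2 := (Nat.mul_dvd_mul_iff_left (by norm_num : 0 < 3)).1 hm6
    rcases (Nat.dvd_prime Nat.prime_two).1 hj with rfl | rfl
    · exfalso
      -- then `N` is a Sylow 2-subgroup
      obtain ⟨U, hU⟩ := hN2.exists_le_sylow
      refine hnc ⟨U, ?_⟩
      have hUN : (U : Subgroup H) = N := by
        refine (Subgroup.eq_of_le_of_card_ge hU ?_).symm
        obtain ⟨k, hk'⟩ := IsPGroup.iff_card.1 U.isPGroup'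
        have h1 := Subgroup.card_subgroup_dvd_card (U : Subgroup H)
        rw [hk', hm] at h1
        rw [hk', hNcard]
        have h2 : k ≤ 3 := by
          by_contra h
          exact absurd ((pow_dvd_pow 2 (by omega : 4 ≤ k)).trans h1) (by norm_num)
        calc 2 ^ k ≤ 2 ^ 3 := Nat.pow_le_pow_right (by norm_num) h2
          _ = 8 := by norm_num
      rw [hUN]; infer_instance
    · omega
  -- Sylow subgroups have order sixteen
  have hsyl : ∀ P : Sylow 2 H, Nat.card (P : Subgroup H) = 16 := by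
    intro P
    rw [P.card_eq_multiplicity, hH, show (48 : ℕ) = 16 * 3 by norm_num,
      Nat.factorization_mul (by norm_num) (by norm_num), Finsupp.add_apply,
      Nat.factorization_eq_zero_of_not_dvd (show ¬ 2 ∣ 3 by norm_num),
      show (16 : ℕ) = 2 ^ 4 by norm_num, Nat.Prime.factorization_pow Nat.prime_two, Finsupp.single_eq_same]
  have hp3 : p = 3 := by
    rcases (Nat.Prime.dvd_mul hp).1 (show p ∣ 16 * 3 by rw [hH] at hpd; exact hpd) with h | h
    · exact absurd ((Nat.prime_dvd_prime_iff_eq hp Nat.prime_two).1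
        (hp.dvd_of_dvd_pow (show p ∣ 2 ^ 4 from h))) hp2
    · exact (Nat.prime_dvd_prime_iff_eq hp Nat.prime_three).1 h
  subst hp3
  set π := QuotientGroup.mk' N with hπ
  have hcN : c ∉ N := fun h => by
    obtain ⟨k, hk'⟩ := IsPGroup.iff_orderOf.1 hN2 ⟨c, h⟩
    rw [Subgroup.orderOf_mk, hc] at hk'
    exact absurd ((Nat.prime_dvd_prime_iff_eq Nat.prime_three Nat.prime_two).1
      (Nat.prime_three.dvd_of_dvd_pow (dvd_of_eq hk'))) (by norm_num)
  by_cases hs : ∃ s : H, s ∉ N ∧ s * s = 1
  · left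
    obtain ⟨s, hs, hs2⟩ := hs
    -- an element of order three inverted by `s`
    have hncomm : π s * π c ≠ π c * π s := by
      intro hcom
      set P := N ⊔ Subgroup.zpowers s with hP
      have hP2 : IsPGroup 2 P := hN2.to_sup_of_normal_left
        (IsPGroup.of_card_dvd_pow (n := 1) (by
          rw [Nat.card_zpowers, pow_one]
          exact orderOf_dvd_of_pow_eq_one (by rw [pow_two, hs2])))
      obtain ⟨U, hU⟩ := hP2.exists_le_sylow
      have hPU : P = (U : Subgroup H) := by
        refine Subgroup.eq_of_le_of_card_ge hU ?_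
        obtain ⟨k, hk'⟩ := IsPGroup.iff_card.1 hP2
        have h1 : Nat.card N < Nat.card P := lt_of_le_of_ne (Subgroup.card_le_of_le le_sup_left)
          fun h => hs ((Subgroup.eq_of_le_of_card_ge (le_sup_left : N ≤ P) h.ge).ge
            (Subgroup.mem_sup_right (Subgroup.mem_zpowers s)))
        rw [hNcard, hk', show (8 : ℕ) = 2 ^ 3 by norm_num] at h1
        rw [hsyl, hk', show (16 : ℕ) = 2 ^ 4 by norm_num]
        exact Nat.pow_le_pow_right (by norm_num) ((Nat.pow_lt_pow_iff_right (by norm_num)).1 h1)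
      refine hnc ⟨U, ?_⟩
      rw [← hPU]
      refine Subgroup.normalizer_eq_top_iff.1 (top_le_iff.1 ?_)
      have htop : (⊤ : Subgroup H) = P ⊔ Subgroup.zpowers c := by
        refine (Subgroup.eq_top_of_le_card _ ?_).symm
        rw [hH]
        refine Nat.le_of_dvd Nat.card_pos (Nat.Coprime.mul_dvd_of_dvd_of_dvd (by norm_num : Nat.Coprime 16 3)
          ?_ ?_)
        · rw [← hsyl U, ← hPU]
          exact Subgroup.card_dvd_of_le le_sup_left
        · rw [← hc, ← Nat.card_zpowers]
          exact Subgroup.card_dvd_of_le le_sup_right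
      rw [htop]
      refine sup_le Subgroup.le_normalizer (Subgroup.zpowers_le.2 ?_)
      have hcs : c * s * c⁻¹ ∈ P := by
        have h1 : (c * s * c⁻¹) * s⁻¹ ∈ N := by
          rw [← QuotientGroup.eq_one_iff]
          show π _ = 1
          rw [map_mul π, map_mul π, map_mul π, map_inv, map_inv, ← hcom]
          group
        have h2 := P.mul_mem (Subgroup.mem_sup_left h1) (Subgroup.mem_sup_right (Subgroup.mem_zpowers s))
        rwa [inv_mul_cancel_right] at h2
      have hmap : P.map (MulAut.conj c).toMonoidHom ≤ P := by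
        rw [hP, Subgroup.map_sup, MonoidHom.map_zpowers]
        refine sup_le ?_ (Subgroup.zpowers_le.2 hcs)
        rintro _ ⟨x, hx, rfl⟩
        exact Subgroup.mem_sup_left (‹N.Normal›.conj_mem x hx c)
      exact Subgroup.mem_normalizer_iff.2 fun x => by
        have heq : P.map (MulAut.conj c).toMonoidHom = P := Subgroup.eq_of_le_of_card_ge hmap
          (Subgroup.card_map_of_injective (MulAut.conj c).injective).ge
        exact FourGroup.conj_mem_iff_of_map heq x
    set d := s * (c * s * c⁻¹) with hd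
    have hsinv : s⁻¹ = s := inv_eq_of_mul_eq_one_left hs2
    have hsd : s * d * s⁻¹ = d⁻¹ := by
      rw [hd, hsinv, mul_inv_rev, mul_inv_rev, mul_inv_rev, inv_inv, hsinv, ← mul_assoc s s, hs2, one_mul,
        mul_assoc c]
    have hd3 : 3 ∣ orderOf d := by
      by_contra h3
      have h1 : orderOf (π d) ∣ 6 := by
        have h := orderOf_dvd_natCard (π d)
        have h' := N.card_eq_card_quotient_mul_card_subgroup
        rw [hH, hNcard] at h'
        rwa [show Nat.card (H ⧸ N) = 6 by omega] at h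
      have h2 : orderOf (π d) ∣ 2 := by
        refine Nat.Coprime.dvd_of_dvd_mul_right (k := orderOf (π d)) (n := 3) ?_ h1
        exact ((Nat.prime_three.coprime_iff_not_dvd).2 fun h => h3 (h.trans (orderOf_map_dvd π d))).symm
      -- the images of two involutions commute
      set a := π s with ha
      set b := π c * π s * (π c)⁻¹ with hb
      have haa : a * a = 1 := by rw [ha, ← map_mul, hs2, map_one]
      have hbb : b * b = 1 := by
        rw [hb, show π c * π s * (π c)⁻¹ * (π c * π s * (π c)⁻¹) = π c * (a * a) * (π c)⁻¹ by rw [ha]; group, haa]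
        group
      have hab : (a * b) * (a * b) = 1 := by
        have h := orderOf_dvd_iff_pow_eq_one.1 h2
        rwa [pow_two, hd, map_mul π, map_mul π, map_mul π, map_inv] at h
      have hai : a⁻¹ = a := inv_eq_of_mul_eq_one_left haa
      have hbi : b⁻¹ = b := inv_eq_of_mul_eq_one_left hbb
      have hcomm : a * b = b * a := by
        calc a * b = (a * b)⁻¹ := (inv_eq_of_mul_eq_one_left hab).symm
          _ = b * a := by rw [mul_inv_rev, hai, hbi]
      have hab2 : a = b := by
        by_contra hne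
        have hfour : ∀ x y : H ⧸ N, x ∈ ({1, a, b, a * b} : Set (H ⧸ N)) → y ∈ ({1, a, b, a * b} : Set (H ⧸ N)) →
            x * y ∈ ({1, a, b, a * b} : Set (H ⧸ N)) := by
          intro x y hx hy
          have e1 : b * a = a * b := hcomm.symm
          have e2 : a * (a * b) = b := by rw [← mul_assoc, haa, one_mul]
          have e3 : b * (a * b) = a := by rw [← mul_assoc, e1, mul_assoc, hbb, mul_one]
          have e4 : a * b * a = b := by rw [mul_assoc, e1, e2]
          have e5 : a * b * b = a := by rw [mul_assoc, hbb, mul_one]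
          simp only [Set.mem_insert_iff, Set.mem_singleton_iff] at hx hy ⊢
          rcases hx with rfl | rfl | rfl | rfl <;> rcases hy with rfl | rfl | rfl | rfl <;>
            simp [haa, hbb, hab, e1, e2, e3, e4, e5]
        let V : Subgroup (H ⧸ N) :=
          { carrier := {1, a, b, a * b}
            one_mem' := Or.inl rfl
            mul_mem' := fun {x y} hx hy => hfour x y hx hy
            inv_mem' := fun {x} hx => by
              simp only [Set.mem_insert_iff, Set.mem_singleton_iff] at hx ⊢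
              rcases hx with rfl | rfl | rfl | rfl
              · simp
              · simp [hai]
              · simp [hbi]
              · right; right; right; exact inv_eq_of_mul_eq_one_left hab }
        have ha1 : a ≠ 1 := fun h => hs ((QuotientGroup.eq_one_iff s).1 h)
        have hb1 : b ≠ 1 := fun h => ha1 (by rw [hb] at h; exact conj_eq_one_iff.1 h)
        have hab1 : a * b ≠ 1 := fun h => hne (by rw [← hai]; exact inv_eq_of_mul_eq_one_right h)
        have h4 : 4 ≤ Nat.card V := by
          have h := Nat.card_le_card_of_injective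
            (![(⟨1, Or.inl rfl⟩ : V), ⟨a, Or.inr (Or.inl rfl)⟩, ⟨b, Or.inr (Or.inr (Or.inl rfl))⟩,
              ⟨a * b, Or.inr (Or.inr (Or.inr rfl))⟩]) ?_
          · simpa using h
          · have n1 : a ≠ a * b := fun h => hb1 (mul_eq_left.1 h.symm)
            have n2 : b ≠ a * b := fun h => ha1 (mul_eq_right.1 h.symm)
            intro i j hij
            fin_cases i <;> fin_cases j <;>
              first | rfl |
                (exfalso; simp [Subtype.ext_iff, ha1, hb1, hab1, hne, n1, n2, Ne.symm ha1, Ne.symm hb1,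
                  Ne.symm hab1, Ne.symm hne, Ne.symm n1, Ne.symm n2] at hij)
        have h6 := Subgroup.card_subgroup_dvd_card V
        have h' := N.card_eq_card_quotient_mul_card_subgroup
        rw [hH, hNcard] at h'
        rw [show Nat.card (H ⧸ N) = 6 by omega] at h6
        have h7 : Nat.card V ≤ 4 := by
          have h := Nat.card_le_card_of_surjective
            (![(⟨1, Or.inl rfl⟩ : V), ⟨a, Or.inr (Or.inl rfl)⟩, ⟨b, Or.inr (Or.inr (Or.inl rfl))⟩,
              ⟨a * b, Or.inr (Or.inr (Or.inr rfl))⟩]) (by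
            rintro ⟨x, rfl | rfl | rfl | rfl⟩
            exacts [⟨0, rfl⟩, ⟨1, rfl⟩, ⟨2, rfl⟩, ⟨3, rfl⟩])
          simpa using h
        rw [show Nat.card V = 4 by omega] at h6
        norm_num at h6
      rw [ha, hb] at hab2
      exact hncomm (by
        calc π s * π c = π c * π s * (π c)⁻¹ * π c := by rw [← hab2]
          _ = π c * π s := by group)
    obtain ⟨m, hm⟩ := hd3
    have hto : orderOf (d ^ m) = 3 := by
      rw [orderOf_pow_of_dvd (fun h => by rw [h, mul_zero] at hm; exact (orderOf_pos d).ne' hm) ⟨3, by rw [hm]; ring⟩,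
        hm]
      exact Nat.mul_div_cancel _ (Nat.pos_of_ne_zero fun h => by rw [h, mul_zero] at hm; exact (orderOf_pos d).ne' hm)
    exact nonempty_equiv (Split.mk N inferInstance e hC hH s (d ^ m) hs hs2 hto (by
      rw [← conj_pow, hsd, inv_pow])) model
  · right
    push Not at hs
    have hcent : Subgroup.center H = Subgroup.centralizer (N : Set H) :=
      le_antisymm (Subgroup.center_le_centralizer _) hcentral
    have hcard2 : Nat.card (Subgroup.center H) = 2 := by rw [hcent, hCcard]
    refine ⟨hH, hcard2, ?_, fun P => ?_⟩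
    · -- the central quotient
      set Z := Subgroup.center H with hZ
      set ρ := QuotientGroup.mk' Z with hρ
      have hq24 : Nat.card (H ⧸ Z) = 24 := by
        have h := Z.card_eq_card_quotient_mul_card_subgroup
        rw [hH, hcard2] at h
        omega
      haveI : (N.map ρ).Normal := ‹N.Normal›.map ρ (QuotientGroup.mk'_surjective Z)
      have hzZ : z ∈ Z := Subgroup.mem_center_iff.2 hzc
      have hV : IsKleinFour (N.map ρ) := by
        have hcard : Nat.card (N.map ρ) = 4 := by
          have h1 := (N.map ρ).card_mul_index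
          rw [Subgroup.index_map_eq _ (QuotientGroup.mk'_surjective Z)
            (by rw [QuotientGroup.ker_mk']; exact hcent.le.trans hC), hq24] at h1
          have h2 := N.card_mul_index
          rw [hNcard, hH] at h2
          rw [show N.index = 6 by omega] at h1
          omega
        refine ⟨hcard, ?_⟩
        have hsq : ∀ x : N.map ρ, x ^ 2 = 1 := by
          rintro ⟨_, x, hx, rfl⟩
          refine Subtype.ext ?_
          show ρ x ^ 2 = 1
          rw [← map_pow]
          refine (QuotientGroup.eq_one_iff _).2 ?_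
          rcases q8_sq (e.symm ⟨x, hx⟩) with h | h
          · rw [pow_two, show x * x = 1 from congrArg Subtype.val (e.symm.injective
              ((map_mul e.symm ⟨x, hx⟩ ⟨x, hx⟩).trans (h.trans (map_one _).symm)))]
            exact one_mem _
          · have h' : x * x = z := by
              rw [hz, ← h, ← map_mul, MulEquiv.apply_symm_apply]; rfl
            rwa [pow_two, h']
        haveI : Nontrivial (N.map ρ) := Finite.one_lt_card_iff_nontrivial.1 (by rw [hcard]; norm_num)
        refine (Monoid.exponent_eq_prime_iff Nat.prime_two).2 fun x hx => ?_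
        exact orderOf_eq_prime (hsq x) hx
      refine FourGroup.equiv_perm_four (N.map ρ) hV ?_ (ρ c) ?_ hq24
      · -- self-centralizing
        intro q hq
        obtain ⟨x, rfl⟩ := QuotientGroup.mk'_surjective Z q
        set D := (Subgroup.centralizer ((N.map ρ : Subgroup (H ⧸ Z)) : Set (H ⧸ Z))).comap ρ with hD
        haveI : D.Normal := inferInstance
        have hD2 : IsPGroup 2 D := by
          refine FusionSys.isPGroup_of_coprime_elems fun d hdD hd => ?_
          have hdodd : Odd (orderOf d) := Nat.coprime_two_right.1 hd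
          refine hodd_one _ hdodd (Subgroup.mem_centralizer_iff.2 fun y hy => ?_)
          have h1 : y⁻¹ * (d * y * d⁻¹) ∈ Z := by
            rw [← QuotientGroup.eq_one_iff]
            show ρ _ = 1
            rw [map_mul, map_inv, map_mul, map_mul, map_inv,
              ← Subgroup.mem_centralizer_iff.1 hdD (ρ y) ⟨y, hy, rfl⟩, mul_inv_cancel_right, inv_mul_cancel]
          refine (FusionSys.fix_of_commutator (IsPGroup.of_card (n := 1) (by rw [hcard2, pow_one]))
            (Nat.coprime_two_right.2 hdodd) h1 ?_).symm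
          rw [Subgroup.mem_center_iff.1 h1 d, mul_inv_cancel_right]
        exact Subgroup.mem_map_of_mem ρ ((le_sSup ⟨‹D.Normal›, hD2⟩ : D ≤ N) hq)
      · refine orderOf_eq_prime ?_ fun h => ?_
        · rw [← map_pow, ← hc, pow_orderOf_eq_one, map_one]
        · exact hcN (hC (hcent ▸ (QuotientGroup.eq_one_iff c).1 h))
    · -- the Sylow subgroups
      have huniq : ∀ x : H, x * x = 1 → x = 1 ∨ x = z := fun x hx =>
        hinv x (by_contra fun h => hs x h hx) hx
      have hrank : Cfsg.PRankLE 2 1 (P : Subgroup H) := by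
        intro A _ hA2
        refine le_of_le_of_eq (Nat.card_le_card_of_injective
          (fun a : A => (⟨((a : (P : Subgroup H)) : H), ?_⟩ : Subgroup.center H)) ?_) hcard2
        · rcases huniq ((a : (P : Subgroup H)) : H) (by
            rw [← pow_two, ← Subgroup.coe_pow, hA2 a a.2]; rfl) with h | h
          · rw [h]; exact one_mem _
          · rw [h]; exact Subgroup.mem_center_iff.2 hzc
        · exact fun a b h => Subtype.ext (Subtype.ext (congrArg Subtype.val h :))
      rcases FpfStruct.cyclic_or_quaternion P.isPGroup' (abCyclic_of_rank P.isPGroup' hrank) with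
        hcyc | ⟨-, n, ⟨f⟩⟩
      · exfalso
        have hNP : N ≤ (P : Subgroup H) := by
          obtain ⟨W, hW⟩ := hN2.exists_le_sylow
          obtain ⟨g, hg⟩ := MulAction.exists_smul_eq H W P
          intro x hx
          rw [← hg]
          exact ⟨g⁻¹ * x * g, hW (by simpa using ‹N.Normal›.conj_mem x hx g⁻¹), by
            show g * (g⁻¹ * x * g) * g⁻¹ = x
            group⟩
        haveI := hcyc
        haveI : IsMulCommutative (P : Subgroup H) := inferInstance
        have h1 : ∀ x y : Q8, x * y = y * x := fun x y => e.injective (by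
          rw [map_mul, map_mul]
          exact Subtype.ext (congrArg Subtype.val
            (mul_comm' (⟨_, hNP (e x).2⟩ : (P : Subgroup H)) ⟨_, hNP (e y).2⟩) :))
        exact absurd (h1 (QuaternionGroup.a 1) (QuaternionGroup.xa 0)) (by decide +kernel)
      · have h := Nat.card_congr f.toEquiv
        haveI : NeZero (2 ^ n) := ⟨pow_ne_zero _ two_ne_zero⟩
        rw [hsyl, Nat.card_eq_fintype_card, QuaternionGroup.card] at h
        have hn : n = 2 := by
          have h4 : 2 ^ n = 2 ^ 2 := by omega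
          exact Nat.pow_right_injective (le_refl 2) h4
        subst hn
        exact ⟨f⟩

theorem main {G : Type*} [Group G] [Finite G] (hs : Group.IsSolvable G)
    (hI : ∀ S T : Sylow 2 G, S ≠ T → Cfsg.PRankLE 2 1 ↥((S : Subgroup G) ⊓ (T : Subgroup G))) :
    (∃ P : Sylow 2 (G ⧸ Cfsg.oddCore G), (P : Subgroup (G ⧸ Cfsg.oddCore G)).Normal) ∨
    Nonempty ((G ⧸ Cfsg.oddCore G) ≃* GL (Fin 2) (ZMod 3)) ∨
    (Nat.card (G ⧸ Cfsg.oddCore G) = 48 ∧ Nat.card ↥(Subgroup.center (G ⧸ Cfsg.oddCore G)) = 2 ∧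
      Nonempty ((G ⧸ Cfsg.oddCore G) ⧸ Subgroup.center (G ⧸ Cfsg.oddCore G) ≃* Equiv.Perm (Fin 4)) ∧
      ∀ P : Sylow 2 (G ⧸ Cfsg.oddCore G), Nonempty (↥(P : Subgroup (G ⧸ Cfsg.oddCore G)) ≃* QuaternionGroup 4)) := by
  haveI : Fact (Nat.Prime 2) := ⟨Nat.prime_two⟩
  haveI := FittingCores.pPrimeCore_normal (G := G) 2
  haveI : Group.IsSolvable (G ⧸ Cfsg.oddCore G) :=
    Group.isSolvable_of_surjective (QuotientGroup.mk'_surjective _)
  by_cases hnc : ∃ P : Sylow 2 (G ⧸ Cfsg.oddCore G), (P : Subgroup (G ⧸ Cfsg.oddCore G)).Normal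
  · exact Or.inl hnc
  · exact Or.inr (structure_core_free (FittingCores.pPrimeCore_quotient_eq_bot 2 _ rfl)
      (rank_quotient _ (FittingCores.pPrimeCore_coprime 2) hI) hnc)

end Cfsg.Agent.FGStruct.QuatFortyEight
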