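import Cfsg.Agent.Lib.NearField.TypeTwo
import Cfsg.Agent.Lib.TwoGroups.Lifts
import Mathlib.GroupTheory.SemidirectProduct
import Mathlib.GroupTheory.Sylow
import Mathlib.LinearAlgebra.Matrix.GeneralLinearGroup.Card

/-!
A group of order `48` with a self-centralizing normal quaternion subgroup of order `8` and an
involution outside it inverting an element of order `3` is isomorphic to `GL(2, 3)`.
-/

set_option autoImplicit false
set_option linter.style.haveILetI false
set_option maxRecDepth 100000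

namespace Cfsg.Agent.FGStruct.QuatFortyEight

abbrev Q8 := QuaternionGroup 2

theorem q8_card : Nat.card Q8 = 8 := by
  rw [Nat.card_eq_fintype_card, QuaternionGroup.card]

theorem q8_central_cases : ∀ x : Q8, (∀ y : Q8, x * y = y * x) ↔ (x = 1 ∨ x = QuaternionGroup.a 2) := by
  decide +kernel

theorem q8_invol : ∀ x : Q8, x * x = 1 → x = 1 ∨ x = QuaternionGroup.a 2 := by decide +kernel

theorem q8_z_sq : (QuaternionGroup.a 2 : Q8) * QuaternionGroup.a 2 = 1 := by decide +kernel

theorem q8_z_ne : (QuaternionGroup.a 2 : Q8) ≠ 1 := by decide +kernel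

theorem q8_sq : ∀ x : Q8, x * x = 1 ∨ x * x = QuaternionGroup.a 2 := by decide +kernel

theorem d3_center : ∀ w : DihedralGroup 3, (∀ y, w * y = y * w) → w = 1 := by decide +kernel

theorem finite_aut : Finite (MulAut Q8) :=
  Finite.of_injective (fun f => (f : Q8 → Q8)) DFunLike.coe_injective

/-- An automorphism of order `3` of `Q8` is not centralized by all inner automorphisms. -/
theorem not_normal_zpowers {τ : MulAut Q8} (hτ : orderOf τ = 3) : ¬ (Subgroup.zpowers τ).Normal := by
  intro hn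
  have hc : ∀ x : Q8, τ x * x⁻¹ = 1 ∨ τ x * x⁻¹ = QuaternionGroup.a 2 := by
    intro x
    rw [← q8_central_cases]
    have h1 : MulAut.conj x * τ * (MulAut.conj x)⁻¹ * τ⁻¹ ∈ Subgroup.zpowers τ :=
      mul_mem (hn.conj_mem τ (Subgroup.mem_zpowers τ) _) (inv_mem (Subgroup.mem_zpowers τ))
    have e : τ * (MulAut.conj x)⁻¹ * τ⁻¹ = MulAut.conj (τ x⁻¹) := by
      ext y
      show τ ((MulAut.conj x)⁻¹ (τ⁻¹ y)) = τ x⁻¹ * y * (τ x⁻¹)⁻¹
      rw [MulAut.conj_inv_apply, map_mul, map_mul, map_inv, inv_inv,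
        show τ (τ⁻¹ y) = y from τ.apply_symm_apply y]
    have h2 : MulAut.conj x * τ * (MulAut.conj x)⁻¹ * τ⁻¹ = MulAut.conj (x * τ x⁻¹) := by
      rw [map_mul MulAut.conj, mul_assoc, mul_assoc, ← mul_assoc τ, e]
    have h3 : (MulAut.conj (x * τ x⁻¹)) = 1 := by
      rw [← orderOf_eq_one_iff]
      have h4 : orderOf (MulAut.conj (x * τ x⁻¹)) ∣ 3 := by
        rw [← h2, ← hτ]
        exact orderOf_dvd_of_mem_zpowers h1
      have h5 : orderOf (MulAut.conj (x * τ x⁻¹)) ∣ 8 :=
        ((orderOf_map_dvd MulAut.conj _).trans (orderOf_dvd_natCard _)).trans (dvd_of_eq q8_card)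
      exact Nat.eq_one_of_dvd_coprimes (by norm_num : Nat.Coprime 3 8) h4 h5
    intro y
    have h6 : x * τ x⁻¹ * y * (x * τ x⁻¹)⁻¹ = y := congrArg (fun f : MulAut Q8 => f y) h3
    have h7 : Commute (x * τ x⁻¹) y := mul_inv_eq_iff_eq_mul.1 h6
    have h8 : τ x * x⁻¹ = (x * τ x⁻¹)⁻¹ := by rw [map_inv, mul_inv_rev, inv_inv]
    rw [h8]
    exact h7.inv_left.eq
  have hz : ∀ x : Q8, ∃ d : Q8, τ x = d * x ∧ τ d = d ∧ d * d = 1 := by
    intro x
    refine ⟨τ x * x⁻¹, by rw [inv_mul_cancel_right], ?_, ?_⟩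
    · rcases hc x with h | h
      · rw [h, map_one]
      · rw [h]
        rcases q8_invol (τ (QuaternionGroup.a 2)) (by rw [← map_mul, q8_z_sq, map_one]) with h9 | h9
        · exact absurd (τ.injective (h9.trans (map_one τ).symm)) q8_z_ne
        · exact h9
    · rcases hc x with h | h
      · rw [h, one_mul]
      · rw [h, q8_z_sq]
  have h1 : τ = 1 := by
    ext x
    obtain ⟨d, hd, hdf, hdd⟩ := hz x
    have h3 : (τ ^ 3) x = x := by rw [← hτ, pow_orderOf_eq_one]; rfl
    have h4 : (τ ^ 3) x = d * x := by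
      simp only [pow_succ, pow_zero, one_mul, MulAut.mul_apply, hd, map_mul, hdf]
      rw [← mul_assoc d d, hdd, one_mul]
    show τ x = x
    rw [hd, ← h4, h3]
  rw [h1, orderOf_one] at hτ
  omega

/-- The subgroups of order `6` of `Aut Q8` are conjugate. -/
theorem conj_of_card_six (K K' : Subgroup (MulAut Q8)) (hK : Nat.card K = 6) (hK' : Nat.card K' = 6) :
    ∃ g : MulAut Q8, K.map (MulAut.conj g).toMonoidHom = K' := by
  haveI := finite_aut
  haveI : Fact (Nat.Prime 3) := ⟨Nat.prime_three⟩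
  have hA : Nat.card (MulAut Q8) = 24 := NearField.card_mulAut_q8
  have key : ∀ L : Subgroup (MulAut Q8), Nat.card L = 6 →
      ∃ T : Sylow 3 (MulAut Q8), L = Subgroup.normalizer ((T : Subgroup (MulAut Q8)) : Set (MulAut Q8)) := by
    intro L hL
    obtain ⟨τ, hτ⟩ := exists_prime_orderOf_dvd_card' (G := L) 3 (by rw [hL]; norm_num)
    have hT : Nat.card (Subgroup.zpowers (τ : MulAut Q8)) = 3 ^ 1 := by
      rw [Nat.card_zpowers, Subgroup.orderOf_coe, hτ, pow_one]
    obtain ⟨T, hle⟩ := (IsPGroup.of_card hT).exists_le_sylow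
    obtain ⟨k, hk⟩ := IsPGroup.iff_card.1 T.isPGroup'
    have hTeq : Subgroup.zpowers (τ : MulAut Q8) = (T : Subgroup (MulAut Q8)) := by
      refine Subgroup.eq_of_le_of_card_ge hle ?_
      have h1 : 3 ^ k ∣ 24 := hA ▸ hk ▸ Subgroup.card_subgroup_dvd_card _
      have h2 : k ≤ 1 := by
        by_contra h
        exact absurd ((pow_dvd_pow 3 (by omega : 2 ≤ k)).trans h1) (by norm_num)
      rw [hk, hT]
      exact Nat.pow_le_pow_right (by norm_num) h2
    refine ⟨T, Subgroup.eq_of_le_of_card_ge ?_ ?_⟩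
    · intro l hl
      have hidx : (Subgroup.zpowers τ).index = 2 := by
        have h := (Subgroup.zpowers τ).card_mul_index
        rw [Nat.card_zpowers, hτ, hL] at h
        omega
      haveI := Subgroup.normal_of_index_eq_two hidx
      refine Subgroup.mem_normalizer_iff.2 fun x => ?_
      have hconj : ∀ l : MulAut Q8, l ∈ L → ∀ x ∈ (T : Subgroup (MulAut Q8)),
          l * x * l⁻¹ ∈ (T : Subgroup (MulAut Q8)) := by
        intro l hl x hx
        rw [← hTeq] at hx ⊢
        obtain ⟨i, rfl⟩ := hx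
        have := (‹(Subgroup.zpowers τ).Normal›).conj_mem (τ ^ i) ⟨i, rfl⟩ ⟨l, hl⟩
        obtain ⟨j, hj⟩ := this
        exact ⟨j, congrArg Subtype.val hj⟩
      refine ⟨hconj l hl x, fun h => ?_⟩
      have := hconj l⁻¹ (L.inv_mem hl) _ h
      rwa [show l⁻¹ * (l * x * l⁻¹) * l⁻¹⁻¹ = x by group] at this
    · have h1 : Nat.card (Sylow 3 (MulAut Q8)) =
          (Subgroup.normalizer ((T : Subgroup (MulAut Q8)) : Set (MulAut Q8))).index :=
        Sylow.card_eq_index_normalizer T
      have h2 : Nat.card (Sylow 3 (MulAut Q8)) ≡ 1 [MOD 3] := card_sylow_modEq_one 3 _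
      have h3 : Nat.card (Sylow 3 (MulAut Q8)) ≠ 1 := by
        intro h
        rw [h1, Subgroup.index_eq_one] at h
        refine not_normal_zpowers (τ := (τ : MulAut Q8)) (by rw [Subgroup.orderOf_coe, hτ]) ?_
        rw [hTeq]
        exact Subgroup.normalizer_eq_top_iff.1 h
      have h4 := (Subgroup.normalizer ((T : Subgroup (MulAut Q8)) : Set (MulAut Q8))).card_mul_index
      rw [hA, ← h1] at h4
      have h5 : 4 ≤ Nat.card (Sylow 3 (MulAut Q8)) := by
        have := Nat.card_pos (α := Sylow 3 (MulAut Q8))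
        unfold Nat.ModEq at h2
        omega
      rw [hL]
      nlinarith
  obtain ⟨T, rfl⟩ := key K hK
  obtain ⟨T', rfl⟩ := key K' hK'
  obtain ⟨g, hg⟩ := MulAction.exists_smul_eq (MulAut Q8) T T'
  refine ⟨g, ?_⟩
  rw [← hg, Sylow.coe_subgroup_smul, Subgroup.map_equiv_normalizer_eq (T : Subgroup (MulAut Q8)) (MulAut.conj g)]
  rfl

/-- The hypotheses of the recognition. -/
structure Split (H : Type*) [Group H] [Finite H] where
  N : Subgroup H
  normal : N.Normal
  e : Q8 ≃* N
  cent : Subgroup.centralizer (N : Set H) ≤ N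
  card : Nat.card H = 48
  s : H
  t : H
  hs : s ∉ N
  hs2 : s * s = 1
  ht : orderOf t = 3
  hst : s * t * s⁻¹ = t⁻¹

variable {H : Type*} [Group H] [Finite H]

theorem exists_semidirect (d : Split H) :
    ∃ K : Subgroup (MulAut Q8), Nat.card K = 6 ∧ Nonempty (SemidirectProduct Q8 K K.subtype ≃* H) := by
  haveI := d.normal
  haveI := finite_aut
  set N := d.N
  have hNcard : Nat.card N = 8 := by rw [← Nat.card_congr d.e.toEquiv, q8_card]
  set L := Subgroup.closure ({d.t, d.s} : Set H) with hL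
  have hsmem : d.s ∈ L := Subgroup.subset_closure (by simp)
  have htmem : d.t ∈ L := Subgroup.subset_closure (by simp)
  have hst' : d.s ∉ Subgroup.zpowers d.t := fun h => by
    have h1 : orderOf d.s ∣ 3 := d.ht ▸ orderOf_dvd_of_mem_zpowers h
    have h2 : orderOf d.s ∣ 2 := orderOf_dvd_of_pow_eq_one (by rw [pow_two, d.hs2])
    have := Nat.eq_one_of_dvd_coprimes (by norm_num : Nat.Coprime 3 2) h1 h2
    exact d.hs (orderOf_eq_one_iff.1 this ▸ N.one_mem)
  obtain ⟨f⟩ := TwoLift.dihedral_equiv d.ht d.hs2 d.hst hst' hL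
  have hLcard : Nat.card L = 6 := by rw [Nat.card_congr f.toEquiv, DihedralGroup.nat_card]
  have hint : L ⊓ N = ⊥ := by
    rw [Subgroup.eq_bot_iff_forall]
    intro w hw
    by_contra hw1
    have hd : orderOf w ∣ 2 := by
      have h1 : orderOf w ∣ 6 := by
        rw [← Subgroup.orderOf_mk w hw.1, ← hLcard]; exact orderOf_dvd_natCard _
      have h2 : orderOf w ∣ 8 := by
        rw [← Subgroup.orderOf_mk w hw.2, ← hNcard]; exact orderOf_dvd_natCard _
      exact Nat.dvd_gcd h1 h2
    have hww : w * w = 1 := by rw [← pow_two]; exact orderOf_dvd_iff_pow_eq_one.1 hd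
    have hwc : ∀ y : H, y * w * y⁻¹ = w := by
      intro y
      have hinv : ∀ v : H, v ∈ N → v * v = 1 → v ≠ 1 → v = d.e (QuaternionGroup.a 2) := by
        intro v hv hvv hv1
        rcases q8_invol (d.e.symm ⟨v, hv⟩) (by
          rw [← map_mul, show (⟨v, hv⟩ : N) * ⟨v, hv⟩ = 1 from Subtype.ext hvv, map_one]) with h | h
        · exact absurd (congrArg Subtype.val (d.e.symm.injective (h.trans (map_one _).symm))) hv1
        · rw [← h, MulEquiv.apply_symm_apply]
      rw [hinv w hw.2 hww hw1, hinv (y * d.e (QuaternionGroup.a 2) * y⁻¹)]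
      · exact d.normal.conj_mem _ (d.e _).2 y
      · rw [← hinv w hw.2 hww hw1, show y * w * y⁻¹ * (y * w * y⁻¹) = y * (w * w) * y⁻¹ by group, hww,
          mul_one, mul_inv_cancel]
      · rw [← hinv w hw.2 hww hw1]
        exact fun h => hw1 (conj_eq_one_iff.1 h)
    have h3 : f ⟨w, hw.1⟩ = 1 := d3_center _ fun y => by
      obtain ⟨u, rfl⟩ := f.surjective y
      rw [← map_mul, ← map_mul]
      exact congrArg f (Subtype.ext (mul_inv_eq_iff_eq_mul.1 (hwc (u : H))).symm)
    exact hw1 (congrArg Subtype.val (f.injective (h3.trans (map_one f).symm)))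
  let ψ : H →* MulAut Q8 := (MulAut.congr d.e.symm).toMonoidHom.comp MulAut.conjNormal
  have hψker : ∀ h : H, ψ h = 1 → h ∈ N := by
    intro h hh
    refine d.cent (Subgroup.mem_centralizer_iff.2 fun x hx => ?_)
    have h1 : (MulAut.conjNormal h : MulAut N) = 1 :=
      (MulAut.congr d.e.symm).injective (hh.trans (map_one _).symm)
    have h2 := congrArg (fun g : MulAut N => ((g ⟨x, hx⟩ : N) : H)) h1
    have h3 : h * x * h⁻¹ = x := h2
    exact (mul_inv_eq_iff_eq_mul.1 h3).symm
  have hinj : Function.Injective (ψ.comp L.subtype) := by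
    rw [injective_iff_map_eq_one]
    intro x hx
    have : (x : H) ∈ L ⊓ N := ⟨x.2, hψker x hx⟩
    rw [hint, Subgroup.mem_bot] at this
    exact Subtype.ext this
  set K := (ψ.comp L.subtype).range with hK
  let σ : L ≃* K := MonoidHom.ofInjective hinj
  refine ⟨K, by rw [← Nat.card_congr σ.toEquiv, hLcard], ⟨?_⟩⟩
  let φ : SemidirectProduct Q8 K K.subtype →* H :=
    SemidirectProduct.lift (N.subtype.comp d.e.toMonoidHom) (L.subtype.comp σ.symm.toMonoidHom) (by
      intro k
      obtain ⟨l, rfl⟩ := σ.surjective k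
      ext q
      show (d.e ((ψ (l : H)) q) : H) = (σ.symm (σ l) : H) * (d.e q : H) * ((σ.symm (σ l) : H))⁻¹
      rw [MulEquiv.symm_apply_apply]
      show (d.e (d.e.symm ((MulAut.conjNormal (l : H) : MulAut N) (d.e q))) : H) = _
      rw [MulEquiv.apply_symm_apply]
      rfl)
  have hφ : Function.Injective φ := by
    rw [injective_iff_map_eq_one]
    intro x hx
    have h1 : (d.e x.left : H) * (σ.symm x.right : H) = 1 := hx
    have h2 : (σ.symm x.right : H) ∈ L ⊓ N := ⟨(σ.symm x.right).2, by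
      rw [show (σ.symm x.right : H) = ((d.e x.left : N) : H)⁻¹ from eq_inv_of_mul_eq_one_right h1]
      exact N.inv_mem (d.e x.left).2⟩
    rw [hint, Subgroup.mem_bot] at h2
    rw [h2, mul_one] at h1
    refine SemidirectProduct.ext ?_ ?_
    · exact d.e.injective ((Subtype.ext h1 : d.e x.left = 1).trans (map_one d.e).symm)
    · exact σ.symm.injective ((Subtype.ext h2 : σ.symm x.right = 1).trans (map_one σ.symm).symm)
  haveI : Finite (SemidirectProduct Q8 K K.subtype) := Finite.of_injective φ hφ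
  refine MulEquiv.ofBijective φ ((Nat.bijective_iff_injective_and_card φ).2 ⟨hφ, ?_⟩)
  rw [SemidirectProduct.card, q8_card, ← Nat.card_congr σ.toEquiv, hLcard, d.card]

theorem nonempty_equiv {H' : Type*} [Group H'] [Finite H'] (d : Split H) (d' : Split H') :
    Nonempty (H ≃* H') := by
  obtain ⟨K, hK, ⟨a⟩⟩ := exists_semidirect d
  obtain ⟨K', hK', ⟨b⟩⟩ := exists_semidirect d'
  obtain ⟨g, rfl⟩ := conj_of_card_six K K' hK hK'
  let c : SemidirectProduct Q8 K K.subtype ≃*
      SemidirectProduct Q8 (K.map (MulAut.conj g).toMonoidHom) (K.map (MulAut.conj g).toMonoidHom).subtype :=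
    SemidirectProduct.congr g ((MulAut.conj g).subgroupMap K) (fun k => by
      ext q
      show g ((k : MulAut Q8) q) = (g * (k : MulAut Q8) * g⁻¹) (g q)
      rw [MulAut.mul_apply, MulAut.mul_apply, show g⁻¹ (g q) = q from g.symm_apply_apply q])
  exact ⟨a.symm.trans (c.trans b)⟩

end Cfsg.Agent.FGStruct.QuatFortyEight
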